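import Cfsg.Agent.Lib.SquarefreeDegrees.Orbit

/-!
# Solvable groups with squarefree degrees have derived length at most four

Each `O_q(G/F(G))` has order dividing `q`, so `G/F(G)` is metabelian; every Sylow subgroup of
`F(G)` has at most two degrees, so `F(G)` is metabelian.
-/

set_option autoImplicit false
set_option linter.unusedSectionVars false
set_option linter.style.haveILetI false

open Subgroup Cfsg Cfsg.Agent.Char
open scoped commutatorElement

namespace Cfsg.Agent.SquarefreeDegrees

universe u

variable {G : Type u} [Group G] [Finite G]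

/-- A nilpotent group with squarefree degrees is metabelian. -/
theorem derivedSeries_two_of_nilpotent [Group.IsNilpotent G] (h : SqDeg G) :
    derivedSeries G 2 = ⊥ := by
  classical
  have hn : ∀ {p : ℕ} [Fact p.Prime] (P : Sylow p G), (P : Subgroup G).Normal := fun {p} _ P =>
    P.normal_of_normalizerCondition Group.normalizerCondition_of_isNilpotent
  have hP : ∀ (p : ℕ) [Fact p.Prime] (P : Sylow p G), derivedSeries P 2 = ⊥ := by
    intro p _ P
    haveI : (P : Subgroup G).Normal := hn P
    haveI := Fintype.ofFinite (P : Subgroup G)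
    obtain ⟨k, hk⟩ := P.isPGroup'.exists_card_eq
    have hd : ∀ χ : IrrCharacter (P : Subgroup G), Char.degree χ = 1 ∨ Char.degree χ = p := by
      intro χ
      have hdvd : Char.degree χ ∣ p ^ k := by
        rw [← hk, ← charDegree_eq_degree]; exact charDegree_dvd_card χ
      obtain ⟨j, -, hj⟩ := (Nat.dvd_prime_pow (Fact.out : p.Prime)).1 hdvd
      have hsq := h.subgroup (P : Subgroup G) χ
      rw [hj] at hsq ⊢
      rcases j with _ | _ | j
      · left; rw [pow_zero]
      · right; rw [pow_one]
      · exact absurd hsq fun hh => (Fact.out : p.Prime).ne_one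
          (Nat.isUnit_iff.1 (hh p ⟨p ^ j, by ring⟩))
    rw [derivedSeries_succ, derivedSeries_one]
    exact ThreeDegrees.derived_two_of_two hd
  let e := Sylow.directProductOfNormal (G := G) hn
  rw [eq_bot_iff, ← map_derivedSeries_eq (f := e.toMonoidHom) e.surjective 2]
  rintro _ ⟨x, hx, rfl⟩
  rw [mem_bot]
  suffices x = 1 by rw [this]; exact map_one e
  funext p P
  haveI : Fact (p : ℕ).Prime := ⟨Nat.prime_of_mem_primeFactors p.2⟩
  have := map_derivedSeries_le_derivedSeries (MonoidHom.mk' (fun f : (∀ r : (Nat.card G).primeFactors,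
      ∀ S : Sylow r G, S) => f p P) fun _ _ => rfl) 2
    (mem_map_of_mem _ hx)
  exact mem_bot.1 (le_of_eq (hP (p : ℕ) P) this)

variable [Group.IsSolvable G]

/-- The Fitting quotient is metabelian. -/
theorem derivedSeries_two_quotient (h : SqDeg G) :
    derivedSeries (G ⧸ fittingSubgroup G) 2 = ⊥ := by
  classical
  haveI := Components.fittingSubgroup_normal G
  set X := G ⧸ fittingSubgroup G with hX
  haveI : Group.IsSolvable X :=
    Group.isSolvable_of_surjective (QuotientGroup.mk'_surjective (fittingSubgroup G))
  have hcard : ∀ q : ℕ, q.Prime → Nat.card (pCore q X) ∣ q := by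
    intro q hq
    haveI : Fact q.Prime := ⟨hq⟩
    haveI := Components.pCore_normal' (G := X) q
    let T := (pCore q X).comap (QuotientGroup.mk' (fittingSubgroup G))
    have hFT : fittingSubgroup G ≤ T := by
      intro x hx
      show (x : X) ∈ pCore q X
      rw [(QuotientGroup.eq_one_iff x).2 hx]
      exact one_mem _
    have hTX : (fittingSubgroup G).relIndex T = Nat.card (pCore q X) := by
      have h1 := Subgroup.relIndex_comap (f := QuotientGroup.mk' (fittingSubgroup G)) ⊥ T
      rw [MonoidHom.comap_bot, QuotientGroup.ker_mk',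
        Subgroup.map_comap_eq_self_of_surjective (QuotientGroup.mk'_surjective _),
        Subgroup.relIndex_bot_left] at h1
      exact h1
    obtain ⟨k, hk⟩ := (Components.isPGroup_pCore' (G := X) q).exists_card_eq
    rw [← hTX] at hk ⊢
    exact card_dvd_prime h hq T hFT hk
  have hcyc : ∀ q : ℕ, q.Prime → IsCyclic (pCore q X) := by
    intro q hq
    rcases (Nat.dvd_prime hq).1 (hcard q hq) with h1 | h1
    · haveI := (Nat.card_eq_one_iff_unique.1 h1).1
      infer_instance
    · haveI : Fact q.Prime := ⟨hq⟩
      exact isCyclic_of_prime_card h1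
  have hle : derivedSeries X 1 ≤ centralizer (fittingSubgroup X : Set X) := by
    rw [le_centralizer_iff]
    refine (Components.fittingSubgroup_eq_iSup_pCore (G := X)).le.trans (iSup_le fun p => ?_)
    rw [le_centralizer_iff, derivedSeries_one, _root_.commutator_def, Subgroup.commutator_le]
    intro a _ b _
    haveI : (pCore (p : ℕ) X).Normal := Components.pCore_normal' _
    haveI := hcyc p (Nat.prime_of_mem_primeFactors p.2)
    have hcomm : ∀ u v : MulAut (pCore (p : ℕ) X), u * v = v * u := by
      intro u v
      obtain ⟨g, hg⟩ := IsCyclic.exists_generator (α := pCore (p : ℕ) X)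
      obtain ⟨i, hi⟩ := mem_zpowers_iff.1 (hg (u g))
      obtain ⟨j, hj⟩ := mem_zpowers_iff.1 (hg (v g))
      refine MulEquiv.ext fun x => ?_
      obtain ⟨n, rfl⟩ := mem_zpowers_iff.1 (hg x)
      show u (v (g ^ n)) = v (u (g ^ n))
      rw [map_zpow, map_zpow, map_zpow, map_zpow, ← hj, ← hi, map_zpow, map_zpow, ← hi, ← hj,
        ← zpow_mul, ← zpow_mul, ← zpow_mul, ← zpow_mul]
      ring_nf
    rw [mem_centralizer_iff]
    intro x hx
    have h1 : MulAut.conjNormal ⁅a, b⁆ (⟨x, hx⟩ : pCore (p : ℕ) X) = ⟨x, hx⟩ := by
      rw [commutatorElement_def, map_mul, map_mul, map_mul, map_inv, map_inv,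
        hcomm (MulAut.conjNormal a) (MulAut.conjNormal b)]
      simp
    have h2 : ⁅a, b⁆ * x * ⁅a, b⁆⁻¹ = x := by
      have := congrArg Subtype.val h1
      rwa [MulAut.conjNormal_apply] at this
    exact ((mul_inv_eq_iff_eq_mul.1 h2)).symm
  have hF : derivedSeries X 1 ≤ fittingSubgroup X :=
    hle.trans Components.centralizer_fittingSubgroup_le
  rw [derivedSeries_succ, commutator_eq_bot_iff_le_centralizer]
  exact hle.trans (centralizer_le (SetLike.coe_subset_coe.2 hF))

theorem derivedSeries_four (h : SqDeg G) : derivedSeries G 4 = ⊥ := by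
  haveI := Components.fittingSubgroup_normal G
  set F := fittingSubgroup G
  have h2 : derivedSeries G 2 ≤ F := by
    intro x hx
    have := map_derivedSeries_le_derivedSeries (QuotientGroup.mk' F) 2 (mem_map_of_mem _ hx)
    rw [derivedSeries_two_quotient h, mem_bot] at this
    exact (QuotientGroup.eq_one_iff x).1 this
  have hF := derivedSeries_two_of_nilpotent (h.subgroup F)
  have hmap : ∀ n, derivedSeries G (n + 2) ≤ (derivedSeries F n).map F.subtype := by
    intro n
    induction n with
    | zero => rwa [derivedSeries_zero, ← MonoidHom.range_eq_map, range_subtype]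
    | succ n ih =>
      rw [show n + 1 + 2 = (n + 2) + 1 from rfl, derivedSeries_succ G (n + 2), derivedSeries_succ F n,
        Subgroup.map_commutator]
      exact commutator_mono ih ih
  have := hmap 2
  rwa [hF, Subgroup.map_bot, le_bot_iff] at this

end Cfsg.Agent.SquarefreeDegrees
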