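import Cfsg.Agent.Lib.Coprime.Commutator
import Cfsg.Agent.Lib.Components.Fitting
import Cfsg.Agent.Lib.Solvable.SystemCarter
import Cfsg.Agent.Lib.ThreeDegrees.Main
import Cfsg.Agent.Lib.Char.Monomial
import Cfsg.Agent.Lib.Char.Linear
import Cfsg.Agent.Lib.SchmidtUniversal.Ext
import Mathlib.GroupTheory.IndexNormal

/-!
# Squarefree character degrees

If all degrees of `T` are squarefree and `T/F` is a `q`-group, the orbits of `T` on linear
characters of a `q'`-subgroup have length `1` or `q`; by coprimality all moved characters have the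
same stabiliser.  Hence `O_q(G/F(G))` has order dividing `q`.
-/

set_option autoImplicit false
set_option linter.unusedSectionVars false
set_option linter.style.haveILetI false

open Subgroup Cfsg Cfsg.Agent.Char

namespace Cfsg.Agent.SquarefreeDegrees

universe u v

/-- Coprime action with all stabilisers of index `1` or `q`: the kernel has index dividing `q`. -/
theorem exists_fix_all {D : Type u} {A : Type v} [Group D] [CommGroup A] {q : ℕ} (hq : q.Prime)
    (act : D → A → A) (hact : ∀ g h a, act (g * h) a = act h (act g a))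
    (hmul : ∀ g a b, act g (a * b) = act g a * act g b)
    (st : A → Subgroup D) (hst : ∀ a g, g ∈ st a ↔ act g a = a)
    (hnorm : ∀ a, (st a).Normal) (hidx : ∀ a, (st a).index = 1 ∨ (st a).index = q)
    (hco : ∀ a : A, a ^ q = 1 → a = 1) :
    ∃ K : Subgroup D, K.Normal ∧ K.index ∣ q ∧ ∀ g ∈ K, ∀ a, act g a = a := by
  by_cases hall : ∀ a, (st a).index = 1
  · refine ⟨⊤, inferInstance, by simp, fun g _ a => (hst a g).1 ?_⟩
    rw [Subgroup.index_eq_one.1 (hall a)]
    exact mem_top g
  push Not at hall
  obtain ⟨a, ha⟩ := hall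
  have ha' : (st a).index = q := (hidx a).resolve_left ha
  refine ⟨st a, hnorm a, ha'.dvd, fun g hg b => ?_⟩
  by_contra hgb
  have hgb' : g ∉ st b := fun h => hgb ((hst b g).1 h)
  have hb' : (st b).index = q := (hidx b).resolve_left fun h => hgb' (by
    rw [Subgroup.index_eq_one.1 h]; exact mem_top g)
  obtain ⟨h, hhb, hha⟩ : ∃ h, h ∈ st b ∧ h ∉ st a := by
    by_contra! hle
    have h1 : st b = st a := by
      refine le_antisymm hle (Subgroup.relIndex_eq_one.1 ?_)
      have := Subgroup.relIndex_mul_index (show st b ≤ st a from hle)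
      rw [ha', hb'] at this
      exact Nat.eq_of_mul_eq_mul_right hq.pos (this.trans (one_mul q).symm)
    exact hgb' (h1 ▸ hg)
  set K := st (a * b) with hK
  have hgK : g ∉ K := fun hh => by
    have := (hst _ g).1 hh
    rw [hmul, (hst a g).1 hg] at this
    exact hgb (mul_left_cancel this)
  have hhK : h ∉ K := fun hh => by
    have := (hst _ h).1 hh
    rw [hmul, (hst b h).1 hhb] at this
    exact hha ((hst a h).2 (mul_right_cancel this))
  have hKi : K.index = q := (hidx _).resolve_left fun h1 => hgK (by
    rw [hK, Subgroup.index_eq_one.1 h1]; exact mem_top g)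
  haveI := hnorm (a * b)
  haveI := hnorm a
  haveI := hnorm b
  haveI : Finite (D ⧸ K) := Nat.finite_of_card_ne_zero (by
    rw [← Subgroup.index_eq_card, hKi]; exact hq.ne_zero)
  haveI : Fact q.Prime := ⟨hq⟩
  have hgen : ((h : D) : D ⧸ K)⁻¹ ∈ zpowers ((g : D) : D ⧸ K) := by
    refine mem_zpowers_of_prime_card (p := q) ?_ ?_
    · rw [← Subgroup.index_eq_card]; exact hKi
    · exact fun e => hgK ((QuotientGroup.eq_one_iff g).1 e)
  obtain ⟨i, hi⟩ := mem_zpowers_iff.1 hgen
  have hxK : g ^ i * h ∈ K := by
    rw [← QuotientGroup.eq_one_iff, QuotientGroup.mk_mul, QuotientGroup.mk_zpow, hi,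
      inv_mul_cancel]
  have hgi : act (g ^ i) a = a := (hst a _).1 (zpow_mem hg i)
  set d := act h a * a⁻¹ with hd
  have hd' : act h a = d * a := by rw [hd, inv_mul_cancel_right]
  have hkey := (hst _ _).1 hxK
  rw [hact, hmul, hgi, hmul] at hkey
  -- `hkey : act h a * act h (act (g ^ i) b) = a * b`
  set b' := act (g ^ i) b with hb'def
  have hfix' : act h b' = b' := by
    have h1 : g ^ i * h * (g ^ i)⁻¹ ∈ st b := (hnorm b).conj_mem h hhb _
    have h2 := (hst b _).1 h1
    have h3 : g ^ i * h = g ^ i * h * (g ^ i)⁻¹ * g ^ i := by group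
    rw [hb'def, ← hact, h3, hact, h2]
  rw [hfix'] at hkey
  have hdb : d * b' = b := by
    rw [hd', mul_assoc, mul_comm a b'] at hkey
    rw [← mul_right_inj a, ← hkey]
    ac_rfl
  have hfd : act h d = d := by
    have h1 : act h (d * b') = act h b := congrArg (act h) hdb
    rw [hmul, hfix', (hst b h).1 hhb] at h1
    exact mul_right_cancel (h1.trans hdb.symm)
  have hone : act 1 a = a := (hst a 1).1 (one_mem _)
  have hpow : ∀ n : ℕ, act (h ^ n) a = d ^ n * a := by
    intro n
    induction n with
    | zero => rw [pow_zero, pow_zero, one_mul, hone]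
    | succ n ih =>
      have hdn : ∀ m : ℕ, act h (d ^ m) = d ^ m := by
        intro m
        induction m with
        | zero =>
          have := hmul h 1 1
          rw [one_mul] at this
          rw [pow_zero]
          exact mul_eq_left.1 this.symm
        | succ m ihm => rw [pow_succ, hmul, ihm, hfd]
      rw [pow_succ, hact, ih, hmul, hdn, hd', pow_succ]
      exact (mul_assoc _ _ _).symm
  have hq1 : h ^ q ∈ st a := ha' ▸ Subgroup.pow_index_mem (st a) h
  have hdq : d ^ q = 1 := by
    have := (hst a _).1 hq1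
    rw [hpow] at this
    exact mul_eq_right.1 this
  refine hha ((hst a h).2 ?_)
  rw [hd', hco d hdq, one_mul]

variable {G : Type u} [Group G] [Finite G]

/-- In a nilpotent group the derived subgroup lies in the Frattini subgroup. -/
theorem commutator_le_frattini [Group.IsNilpotent G] : commutator G ≤ frattini G := by
  refine le_iInf₂ fun M hM => ?_
  haveI : M.Normal := NormalizerCondition.normal_of_coatom M Group.normalizerCondition_of_isNilpotent hM
  have hcen : center (G ⧸ M) = ⊤ := by
    haveI : Nontrivial (G ⧸ M) := QuotientGroup.nontrivial_iff.2 hM.1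
    have hne : center (G ⧸ M) ≠ ⊥ := Group.IsNilpotent.center_ne_bot _
    have hle : M ≤ (center (G ⧸ M)).comap (QuotientGroup.mk' M) := fun x hx => by
      rw [Subgroup.mem_comap, QuotientGroup.mk'_apply, (QuotientGroup.eq_one_iff x).2 hx]
      exact one_mem _
    have hs := QuotientGroup.mk'_surjective M
    rcases eq_or_lt_of_le hle with he | hlt
    · refine absurd ?_ hne
      rw [← Subgroup.map_comap_eq_self_of_surjective hs (center (G ⧸ M)), ← he]
      exact QuotientGroup.map_mk'_self M
    · rw [← Subgroup.map_comap_eq_self_of_surjective hs (center (G ⧸ M)), hM.2 _ hlt,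
        Subgroup.map_top_of_surjective _ hs]
  rw [_root_.commutator_def, Subgroup.commutator_le]
  intro x _ y _
  rw [← QuotientGroup.eq_one_iff]
  have hc : (x : G ⧸ M) * y = y * x :=
    (Subgroup.mem_center_iff.1 (hcen ▸ mem_top (x : G ⧸ M)) _).symm
  rw [commutatorElement_def]
  simp only [QuotientGroup.mk_mul, QuotientGroup.mk_inv]
  rw [hc]; group

/-- All degrees squarefree. -/
def SqDeg (G : Type u) [Group G] : Prop := ∀ χ : IrrCharacter G, Squarefree (Char.degree χ)

theorem SqDeg.subgroup (h : SqDeg G) (N : Subgroup G) [N.Normal] : SqDeg ↥N := by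
  intro θ
  haveI := Fintype.ofFinite G
  haveI := Fintype.ofFinite N
  obtain ⟨χ, hχ⟩ := ThreeDegrees.exists_over N θ
  exact (h χ).squarefree_of_dvd (ThreeDegrees.constituent_dvd N χ θ hχ).1

theorem SqDeg.quotient (h : SqDeg G) (N : Subgroup G) [N.Normal] : SqDeg (G ⧸ N) := by
  intro ψ
  haveI := Fintype.ofFinite G
  rw [show Char.degree ψ = Char.degree (inflate N ψ) from (degree_eq_of_apply_one (by
    rw [inflate_apply, QuotientGroup.mk_one, apply_one_eq_degree])).symm]
  exact h _

/-- A linear character of a normal subgroup has squarefree orbit length. -/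
theorem squarefree_index_inertia (h : SqDeg G) (N : Subgroup G) [N.Normal] (lam : N →* ℂˣ) :
    Squarefree (inertiaGroup N (fun n => (lam n : ℂ))).index := by
  haveI := Fintype.ofFinite G
  haveI := Fintype.ofFinite N
  let θ : IrrCharacter N := linIrr ((Units.coeHom ℂ).comp lam)
  obtain ⟨χ, hχ⟩ := ThreeDegrees.exists_over N θ
  obtain ⟨hle, ψ, e, he, hres, hind⟩ := exists_indFun_inertia N χ θ hχ
  have h1 := congrFun hind 1
  rw [indFun_apply_one, apply_one_eq_degree, apply_one_eq_degree] at h1
  have h2 : (inertiaGroup N θ.1).index * Char.degree ψ = Char.degree χ := by exact_mod_cast h1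
  exact (h χ).squarefree_of_dvd ⟨_, h2.symm⟩

variable [Group.IsSolvable G]

/-- `O_q(G/F(G))` has order dividing `q`. -/
theorem card_dvd_prime (h : SqDeg G) {q : ℕ} (hq : q.Prime) (T : Subgroup G) [T.Normal]
    (hFT : fittingSubgroup G ≤ T) {k : ℕ}
    (hT : (fittingSubgroup G).relIndex T = q ^ k) : (fittingSubgroup G).relIndex T ∣ q := by
  classical
  haveI : Fact q.Prime := ⟨hq⟩
  set F := fittingSubgroup G with hF
  obtain ⟨Q, hQi, hQq, hQmem⟩ := Solvable.exists_complement_of_nilpotent (G := F) hq
  have hQiff : ∀ x : F, x ∈ Q ↔ (orderOf x).Coprime q := fun x => ⟨fun hx =>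
    Nat.Coprime.coprime_dvd_left (Subgroup.orderOf_dvd_natCard Q hx)
      (hq.coprime_iff_not_dvd.2 hQq).symm, hQmem x⟩
  let N := Q.map F.subtype
  have hNF : N ≤ F := map_subtype_le _
  haveI hNn : N.Normal := ⟨by
    rintro _ ⟨x, hx, rfl⟩ g
    refine ⟨⟨g * x * g⁻¹, (Components.fittingSubgroup_normal G).conj_mem _ x.2 g⟩, ?_, rfl⟩
    refine (hQiff _).2 ?_
    rw [← Subgroup.orderOf_coe, Solvable.orderOf_conj, Subgroup.orderOf_coe]
    exact (hQiff x).1 hx⟩
  have hNq : ¬ q ∣ Nat.card N := by
    rwa [Subgroup.card_map_of_injective F.subtype_injective]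
  -- elements of `F` fix every linear character of `N`
  let N' := N.subgroupOf T
  haveI : N'.Normal := Subgroup.Normal.subgroupOf hNn T
  let F' := F.subgroupOf T
  haveI : F'.Normal := Subgroup.Normal.subgroupOf (Components.fittingSubgroup_normal G) T
  let act : T → (N' →* ℂˣ) → (N' →* ℂˣ) := fun g lam => lam.comp (MulAut.conjNormal g).toMonoidHom
  let st : (N' →* ℂˣ) → Subgroup T := fun lam => inertiaGroup N' (fun n => (lam n : ℂ))
  have hst : ∀ lam g, g ∈ st lam ↔ act g lam = lam := by
    intro lam g
    rw [mem_inertiaGroup]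
    constructor
    · intro he
      refine MonoidHom.ext fun n => Units.ext ?_
      exact congrFun he n
    · intro he
      funext n
      exact congrArg Units.val (DFunLike.congr_fun he n)
  have hNle : N' ≤ F' := Subgroup.subgroupOf_mono T hNF |>.trans le_rfl
  have hFst : ∀ lam, F' ≤ st lam := by
    intro lam g hg
    rw [hst]
    refine MonoidHom.ext fun n => ?_
    show lam (MulAut.conjNormal g n) = lam n
    obtain ⟨x, hx⟩ : ∃ x : N', ∀ m : N', MulAut.conjNormal g m = x * m * x⁻¹ := by
      -- `g = x y` with `x` of `q'`-order and `y` centralising `N`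
      let gF : F := ⟨(g : G), hg⟩
      obtain ⟨y, z, hy, hz, hyz⟩ : ∃ y z : F, y ∈ Q ∧ (∀ m ∈ Q, z * m = m * z) ∧ y * z = gF := by
        haveI : Q.Normal := ⟨fun x hx g => (hQiff _).2 (by
          rw [Solvable.orderOf_conj]; exact (hQiff x).1 hx)⟩
        let P : Sylow q F := default
        haveI : (P : Subgroup F).Normal := P.normal_of_normalizerCondition
          Group.normalizerCondition_of_isNilpotent
        have hdis : Disjoint Q (P : Subgroup F) := by
          rw [disjoint_iff]
          refine Subgroup.inf_eq_bot_of_coprime ?_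
          obtain ⟨j, hj⟩ := (P.isPGroup').exists_card_eq
          rw [hj]
          exact Nat.Coprime.pow_right _ (hq.coprime_iff_not_dvd.2 hQq).symm
        have hcard : Q.index = Nat.card (P : Subgroup F) := by rw [hQi, P.card_eq_multiplicity]
        have hsup : Q ⊔ (P : Subgroup F) = ⊤ := by
          refine Subgroup.eq_top_of_card_eq _ ?_
          refine Nat.dvd_antisymm (Subgroup.card_subgroup_dvd_card _) ?_
          rw [← card_mul_index Q, hcard]
          refine Nat.Coprime.mul_dvd_of_dvd_of_dvd ?_ (card_dvd_of_le le_sup_left)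
            (card_dvd_of_le le_sup_right)
          obtain ⟨j, hj⟩ := (P.isPGroup').exists_card_eq
          rw [hj]
          exact Nat.Coprime.pow_right _ (hq.coprime_iff_not_dvd.2 hQq).symm
        have hmem : gF ∈ Q ⊔ (P : Subgroup F) := hsup ▸ mem_top gF
        obtain ⟨y, hy, z, hz, e⟩ := Subgroup.mem_sup_of_normal_right.1 hmem
        exact ⟨y, z, hy, fun m hm => (Subgroup.commute_of_normal_of_disjoint Q _ inferInstance
          inferInstance hdis m z hm hz).symm.eq, e⟩
      have hyT : (y : G) ∈ T := hFT y.2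
      refine ⟨⟨⟨(y : G), hyT⟩, mem_map_of_mem F.subtype hy⟩, fun m => ?_⟩
      obtain ⟨mF, hmQ, hmF⟩ : ∃ mF : F, mF ∈ Q ∧ (mF : G) = ((m : T) : G) := by
        obtain ⟨mF, h1, h2⟩ := m.2
        exact ⟨mF, h1, h2⟩
      apply Subtype.ext
      apply Subtype.ext
      rw [MulAut.conjNormal_apply]
      show (g : G) * (m : T) * (g : G)⁻¹ = (y : G) * (m : T) * (y : G)⁻¹
      rw [← hmF, show (g : G) = ((y * z : F) : G) from by rw [hyz]]
      have := congrArg Subtype.val (hz mF hmQ)
      simp only [Subgroup.coe_mul] at this ⊢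
      rw [mul_assoc (y : G), this, ← mul_assoc (y : G), mul_inv_rev]
      group
    rw [hx, map_mul, map_mul, map_inv, mul_right_comm, mul_inv_cancel, one_mul]
  have hF'i : F'.index = q ^ k := hT
  have hqgrp : IsPGroup q (T ⧸ F') := IsPGroup.of_card (n := k) (by
    rw [← Subgroup.index_eq_card]; exact hF'i)
  have hidx : ∀ lam, (st lam).index = 1 ∨ (st lam).index = q := by
    intro lam
    obtain ⟨j, -, hj⟩ := (Nat.dvd_prime_pow hq).1 (hF'i ▸ index_dvd_of_le (hFst lam))
    have hsq := squarefree_index_inertia (h.subgroup T) N' lam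
    change Squarefree (st lam).index at hsq
    rw [hj] at hsq ⊢
    rcases j with _ | _ | j
    · left; rw [pow_zero]
    · right; rw [pow_one]
    · exact absurd hsq fun hh => hq.ne_one (Nat.isUnit_iff.1 (hh q ⟨q ^ j, by ring⟩))
  have hnorm : ∀ lam, (st lam).Normal := by
    intro lam
    rcases hidx lam with h1 | h1
    · rw [Subgroup.index_eq_one.1 h1]; infer_instance
    have hs := QuotientGroup.mk'_surjective F'
    have hi' : ((st lam).map (QuotientGroup.mk' F')).index = q := by
      rw [Subgroup.index_map_eq _ hs (by rw [QuotientGroup.ker_mk']; exact hFst lam), h1]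
    obtain ⟨m, hm⟩ := hqgrp.exists_card_eq
    haveI : ((st lam).map (QuotientGroup.mk' F')).Normal := by
      refine Subgroup.normal_of_index_eq_minFac_card ?_
      rw [hi', hm, Nat.Prime.pow_minFac hq]
      rintro rfl
      have := Subgroup.index_dvd_card ((st lam).map (QuotientGroup.mk' F'))
      rw [hi', hm, pow_zero] at this
      exact hq.one_lt.ne' (Nat.dvd_one.1 this)
    have := Subgroup.Normal.comap this (QuotientGroup.mk' F')
    rwa [Subgroup.comap_map_eq_self (by rw [QuotientGroup.ker_mk']; exact hFst lam)] at this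
  have hN'card : Nat.card N' = Nat.card N :=
    Nat.card_congr (Subgroup.subgroupOfEquivOfLe (hNF.trans hFT)).toEquiv
  have hco : ∀ lam : N' →* ℂˣ, lam ^ q = 1 → lam = 1 := by
    intro lam hl
    refine MonoidHom.ext fun n => ?_
    have h1 : lam n ^ q = 1 := by
      have := DFunLike.congr_fun hl n
      simpa using this
    have h2 : lam n ^ Nat.card N' = 1 := by rw [← map_pow, pow_card_eq_one', map_one]
    have h3 := pow_gcd_eq_one.2 ⟨h1, h2⟩
    rw [hN'card, Nat.Coprime.gcd_eq_one (hq.coprime_iff_not_dvd.2 hNq), pow_one] at h3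
    simpa using h3
  obtain ⟨K, hKn, hKi, hKfix⟩ := exists_fix_all hq act
    (fun g h' a => by
      refine MonoidHom.ext fun n => ?_
      show a (MulAut.conjNormal (g * h') n) = a (MulAut.conjNormal g (MulAut.conjNormal h' n))
      rw [map_mul]; rfl)
    (fun g a b => MonoidHom.ext fun n => rfl) st hst hnorm hidx hco
  -- `K ⊔ F'` still fixes all characters; its image lies in `F`
  let K₀ := (K ⊔ F').map T.subtype
  have hfix : ∀ x ∈ K ⊔ F', ∀ lam, act x lam = lam := by
    intro x hx lam
    rw [← hst]
    exact sup_le (fun g hg => (hst lam g).2 (hKfix g hg lam)) (hFst lam) hx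
  have hnilN : Group.IsNilpotent N := by
    haveI : Group.IsNilpotent Q := inferInstance
    exact Group.nilpotent_of_mulEquiv (Q.equivMapOfInjective _ F.subtype_injective)
  suffices hK : K₀ ≤ F by
    have h1 : K ≤ F' := fun x hx => hK (mem_map_of_mem T.subtype (mem_sup_left hx))
    exact (index_dvd_of_le h1).trans hKi
  let S : Sylow q ↥K₀ := default
  let S₀ := (S : Subgroup K₀).map K₀.subtype
  have hS₀ : IsPGroup q S₀ := S.isPGroup'.map _
  have hNK : N ≤ K₀ := fun x hx =>
    mem_map_of_mem T.subtype (mem_sup_right (show (⟨x, hFT (hNF hx)⟩ : T) ∈ F' from hNF hx))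
  have hcent : S₀ ≤ centralizer (N : Set G) := by
    refine Coprime.le_centralizer_of_frattini le_normalizer_of_normal ?_ ?_
    · obtain ⟨j, hj⟩ := hS₀.exists_card_eq
      rw [hj]
      refine Nat.Coprime.pow_left _ (hq.coprime_iff_not_dvd.2 fun hh => hNq (hh.trans ?_))
      exact Subgroup.card_subgroup_dvd_card _
    · intro a ha m hm
      obtain ⟨a', ha', rfl⟩ : a ∈ K₀ := by obtain ⟨s, -, rfl⟩ := ha; exact s.2
      let m' : N' := ⟨⟨m, hFT (hNF hm)⟩, hm⟩
      have hker : MulAut.conjNormal a' m' * m'⁻¹ ∈ commutator N' := by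
        by_contra hne
        have hne' : Abelianization.of (MulAut.conjNormal a' m' * m'⁻¹) ≠ 1 := fun e =>
          hne ((QuotientGroup.eq_one_iff _).1 e)
        obtain ⟨φ, hφ⟩ := CommGroup.exists_apply_ne_one_of_hasEnoughRootsOfUnity
          (Abelianization N') ℂ hne'
        have := DFunLike.congr_fun (hfix a' ha' (φ.comp Abelianization.of)) m'
        refine hφ ?_
        rw [map_mul, map_mul, map_inv, map_inv]
        rw [mul_inv_eq_one]
        exact this
      let E : N' ≃* N := Subgroup.subgroupOfEquivOfLe (hNF.trans hFT)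
      have hE : E (MulAut.conjNormal a' m' * m'⁻¹) ∈ commutator N := by
        have := mem_map_of_mem E.toMonoidHom hker
        rwa [_root_.commutator_def, Subgroup.map_commutator,
          Subgroup.map_top_of_surjective _ E.surjective, ← _root_.commutator_def] at this
      haveI := hnilN
      exact ⟨_, commutator_le_frattini hE, rfl⟩
  have hN'i : ∃ j, N.relIndex K₀ = q ^ j := by
    have h1 : N.relIndex F = q ^ (Nat.card F).factorization q := by
      rw [Subgroup.relIndex, Subgroup.subgroupOf, Subgroup.comap_map_eq_self_of_injective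
        F.subtype_injective, hQi]
    have h2 : N.relIndex T = N.relIndex F * F.relIndex T :=
      (Subgroup.relIndex_mul_relIndex N F T hNF hFT).symm
    have h3 : N.relIndex K₀ ∣ N.relIndex T :=
      Dvd.intro _ (Subgroup.relIndex_mul_relIndex N K₀ T hNK (map_subtype_le _))
    rw [h2, h1, hT, ← pow_add] at h3
    obtain ⟨j, -, hj⟩ := (Nat.dvd_prime_pow hq).1 h3
    exact ⟨j, hj⟩
  have hsup : K₀ = S₀ ⊔ N := by
    have hle : S₀ ⊔ N ≤ K₀ := sup_le (map_subtype_le _) hNK
    refine (Subgroup.eq_of_le_of_card_ge hle ?_).symm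
    obtain ⟨j, hj⟩ := hN'i
    have hcK : Nat.card N * q ^ j = Nat.card K₀ := by
      rw [← hj, Subgroup.relIndex,
        ← Nat.card_congr (Subgroup.subgroupOfEquivOfLe hNK).toEquiv, card_mul_index]
    have hcS : Nat.card S₀ = q ^ j := by
      rw [Subgroup.card_map_of_injective K₀.subtype_injective, S.card_eq_multiplicity, ← hcK,
        Nat.factorization_mul (Nat.card_pos.ne') (pow_ne_zero _ hq.ne_zero), Finsupp.add_apply,
        Nat.factorization_eq_zero_of_not_dvd hNq, zero_add, hq.factorization_pow,
        Finsupp.single_eq_same]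
    rw [← hcK, ← hcS]
    refine Nat.le_of_dvd Nat.card_pos (Nat.Coprime.mul_dvd_of_dvd_of_dvd ?_
      (card_dvd_of_le le_sup_right) (card_dvd_of_le le_sup_left))
    rw [hcS]
    exact Nat.Coprime.pow_right _ (hq.coprime_iff_not_dvd.2 hNq).symm
  haveI : Group.IsNilpotent S₀ := hS₀.isNilpotent
  haveI := hnilN
  haveI : Group.IsNilpotent K₀ := by
    rw [hsup]
    exact SchmidtUniversal.isNilpotent_sup_of_commute fun x hx y hy =>
      (mem_centralizer_iff.1 (hcent hx) y hy).symm
  have hsn : K₀.IsSubnormal := by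
    refine Subgroup.IsSubnormal.step K₀ T (map_subtype_le _)
      (Subgroup.Normal.isSubnormal ‹T.Normal›) ?_
    show ((((K ⊔ F').map T.subtype)).comap T.subtype).Normal
    rw [Subgroup.comap_map_eq_self_of_injective T.subtype_injective]
    exact Subgroup.sup_normal _ _
  exact Components.le_fittingSubgroup_of_isSubnormal hsn

end Cfsg.Agent.SquarefreeDegrees
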